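import Cfsg.Agent.ThRep32.Words

/-! Kernel checks: relators act as the identity on the 248-dimensional space. -/

set_option autoImplicit false
set_option maxRecDepth 100000
set_option Elab.async false

namespace CfsgLib.ThRep32

theorem rel14 : idOK (relWord 14) = true := by
  decide +kernel

theorem rel15 : idOK (relWord 15) = true := by
  decide +kernel

theorem rel16 : idOK (relWord 16) = true := by
  decide +kernel

theorem rel17 : idOK (relWord 17) = true := by
  decide +kernel

theorem rel18 : idOK (relWord 18) = true := by
  decide +kernel

theorem rel19 : idOK (relWord 19) = true := by
  decide +kernel

theorem rel20 : idOK (relWord 20) = true := by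
  decide +kernel

theorem rel21 : idOK (relWord 21) = true := by
  decide +kernel

theorem rel22 : idOK (relWord 22) = true := by
  decide +kernel

theorem rel23 : idOK (relWord 23) = true := by
  decide +kernel

theorem rel24 : idOK (relWord 24) = true := by
  decide +kernel

theorem rel25 : idOK (relWord 25) = true := by
  decide +kernel

theorem rel26 : idOK (relWord 26) = true := by
  decide +kernel

end CfsgLib.ThRep32
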