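import Cfsg.Agent.ThRep32.Words

/-! Kernel checks: relators act as the identity on the 248-dimensional space. -/

set_option autoImplicit false
set_option maxRecDepth 100000
set_option Elab.async false

namespace CfsgLib.ThRep32

theorem rel27 : idOK (relWord 27) = true := by
  decide +kernel

theorem rel28 : idOK (relWord 28) = true := by
  decide +kernel

theorem rel29 : idOK (relWord 29) = true := by
  decide +kernel

theorem rel30 : idOK (relWord 30) = true := by
  decide +kernel

theorem rel31 : idOK (relWord 31) = true := by
  decide +kernel

theorem rel32 : idOK (relWord 32) = true := by
  decide +kernel

theorem rel33 : idOK (relWord 33) = true := by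
  decide +kernel

theorem rel34 : idOK (relWord 34) = true := by
  decide +kernel

theorem rel35 : idOK (relWord 35) = true := by
  decide +kernel

theorem rel36 : idOK (relWord 36) = true := by
  decide +kernel

theorem rel37 : idOK (relWord 37) = true := by
  decide +kernel

theorem rel38 : idOK (relWord 38) = true := by
  decide +kernel

end CfsgLib.ThRep32
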