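import Cfsg.Agent.ThRep32.Words
import Cfsg.Agent.ThRep32.PackData

/-! Kernel checks: inverse letters, shapes, packed rows, and an entry of the first letter. -/

set_option autoImplicit false
set_option maxRecDepth 100000
set_option Elab.async false

namespace CfsgLib.ThRep32

theorem shapes : ((List.range 11).all fun x => shapeOK (matL x) && packOK (pkL x)) = true := by
  decide +kernel

theorem inverses : ((List.range 11).all fun x => idOK [x, invL x]) = true := by
  decide +kernel

theorem packed : ((List.range 11).all fun x =>
    sameS (runM matL [x]) (tab fun i => (pkL x).getD i (0, 0))) = true := by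
  decide +kernel

theorem entry : ((List.range 248).any fun i =>
    !Nat.beq (get (runM matL [0]) i).1 (get oneS i).1) = true := by
  decide +kernel

theorem small_entry : ((List.range 248).all fun i =>
    Nat.blt (get (runM matL [0]) i).1 (2 ^ 248) && Nat.blt (get oneS i).1 (2 ^ 248)) = true := by
  decide +kernel

end CfsgLib.ThRep32
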