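import Cfsg.Agent.ThRep32.ChecksA
import Cfsg.Agent.ThRep32.ChecksB
import Cfsg.Agent.ThRep32.ChecksC
import Cfsg.Agent.ThRep32.ChecksPack

/-!
The 248-dimensional representation of the presented Thompson group over the field with three
elements and its certified evaluator on packed vectors.
-/

set_option autoImplicit false
set_option maxRecDepth 100000

namespace CfsgLib.ThRep32

open Cfsg.Spor Matrix

/-- the matrix of a letter -/
noncomputable def M (x : ℕ) : Matrix (Fin 248) (Fin 248) (ZMod 3) := matOf (matL x)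

theorem eq_ten : ∀ {x : ℕ}, 10 ≤ x → matL x = matL 10 ∧ pkL x = pkL 10 := fun {x} h => by
  match x, h with
  | n + 10, _ => exact ⟨rfl, rfl⟩

theorem shape_all (x : ℕ) : shapeOK (matL x) = true ∧ packOK (pkL x) = true := by
  rcases Nat.lt_or_ge x 11 with h | h
  · exact (Bool.and_eq_true _ _).mp (List.all_eq_true.mp shapes x (List.mem_range.mpr h))
  · rw [(eq_ten (by omega : 10 ≤ x)).1, (eq_ten (by omega : 10 ≤ x)).2]
    exact (Bool.and_eq_true _ _).mp
      (List.all_eq_true.mp shapes 10 (List.mem_range.mpr (by norm_num)))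

theorem rep_word (w : List ℕ) : Rep (runM matL w) (w.map M).prod :=
  rep_runM matL w fun x _ => (shape_all x).1

theorem prod_one {w : List ℕ} (h : idOK w = true) : (w.map M).prod = 1 :=
  rep_eq_of_same (rep_word w) rep_oneS h

theorem pack_val {x : ℕ} (hx : x < 11) (i j : Fin 248) :
    dg ((pkL x).getD i (0, 0)) j = M x i j := by
  have e := List.all_eq_true.mp packed x (List.mem_range.mpr hx)
  have e' := List.all_eq_true.mp e i (List.mem_range.mpr i.isLt)
  rw [Bool.and_eq_true, Nat.beq_eq, Nat.beq_eq, get_tab _ (by omega : (i : ℕ) < 256)] at e'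
  have := (rep_word [x] i).2 j
  rw [Prod.ext e'.1 e'.2] at this
  simpa using this

theorem inv_word {x : ℕ} (hx : x < 11) : M x * M (invL x) = 1 := by
  have := prod_one (List.all_eq_true.mp inverses x (List.mem_range.mpr hx))
  simpa using this

theorem enc_lt (p : Th.Gen × Bool) : enc p < 11 := by
  obtain ⟨g, b⟩ := p
  cases g <;> cases b <;> decide

/-- the image of a generator -/
noncomputable def gen (g : Th.Gen) : GL (Fin 248) (ZMod 3) :=
  ⟨M (enc (g, true)), M (enc (g, false)),
    by
      rw [show enc (g, false) = invL (enc (g, true)) by cases g <;> rfl]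
      exact inv_word (enc_lt _),
    by
      rw [show enc (g, true) = invL (enc (g, false)) by cases g <;> rfl]
      exact inv_word (enc_lt _)⟩

theorem lift_val (r : FreeGroup Th.Gen) :
    (FreeGroup.lift gen r).1 = ((r.toWord.map enc).map M).prod := by
  conv_lhs => rw [← FreeGroup.mk_toWord (x := r), FreeGroup.lift_mk]
  induction r.toWord with
  | nil => simp
  | cons p l ih =>
    obtain ⟨g, b⟩ := p
    rw [List.map_cons, List.prod_cons, List.map_cons, List.map_cons, List.prod_cons,
      Units.val_mul, ih]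
    cases b <;> rfl

theorem rel_all : ∀ i, i < 39 → idOK (relWord i) = true := fun i hi =>
  match i, hi with
  | 0, _ => rel0 | 1, _ => rel1 | 2, _ => rel2 | 3, _ => rel3 | 4, _ => rel4 | 5, _ => rel5
  | 6, _ => rel6 | 7, _ => rel7 | 8, _ => rel8 | 9, _ => rel9 | 10, _ => rel10 | 11, _ => rel11
  | 12, _ => rel12 | 13, _ => rel13 | 14, _ => rel14 | 15, _ => rel15 | 16, _ => rel16
  | 17, _ => rel17 | 18, _ => rel18 | 19, _ => rel19 | 20, _ => rel20 | 21, _ => rel21
  | 22, _ => rel22 | 23, _ => rel23 | 24, _ => rel24 | 25, _ => rel25 | 26, _ => rel26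
  | 27, _ => rel27 | 28, _ => rel28 | 29, _ => rel29 | 30, _ => rel30 | 31, _ => rel31
  | 32, _ => rel32 | 33, _ => rel33 | 34, _ => rel34 | 35, _ => rel35 | 36, _ => rel36
  | 37, _ => rel37 | 38, _ => rel38
  | _ + 39, h => absurd h (by omega)

theorem relators_one :
    ∀ r ∈ coxRelators Th.edges ∪ {r | r ∈ Th.extra}, FreeGroup.lift gen r = 1 := by
  intro r hr
  have hr' : r ∈ Th.extra := by
    simpa [coxRelators, coxNodes, Th.edges] using hr
  obtain ⟨i, hi, rfl⟩ := List.getElem_of_mem hr'
  refine Units.ext ?_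
  rw [lift_val, ← List.getD_eq_getElem Th.extra 1 hi]
  exact prod_one (rel_all i (lt_of_lt_of_le hi (le_of_eq rfl)))

/-- the representation -/
noncomputable def rep : Cfsg.Spor.Th →* GL (Fin 248) (ZMod 3) :=
  PresentedGroup.toGroup relators_one

/-- the value of a letter in the presented group -/
def letter : ℕ → Cfsg.Spor.Th
  | 0 => PresentedGroup.of .a
  | 1 => PresentedGroup.of .b
  | 2 => PresentedGroup.of .c
  | 3 => PresentedGroup.of .d
  | 4 => PresentedGroup.of .e
  | 5 => PresentedGroup.of .s
  | 6 => (PresentedGroup.of .s)⁻¹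
  | 7 => PresentedGroup.of .t
  | 8 => (PresentedGroup.of .t)⁻¹
  | 9 => PresentedGroup.of .u
  | _ => (PresentedGroup.of .u)⁻¹

theorem rep_letter (x : ℕ) :
    ((rep (letter x) : GL (Fin 248) (ZMod 3)) : Matrix (Fin 248) (Fin 248) (ZMod 3)) = M x := by
  have h : ∀ g : Th.Gen, rep (PresentedGroup.of g) = gen g := fun g =>
    PresentedGroup.toGroup.of _
  rcases Nat.lt_or_ge x 10 with hx | hx
  · interval_cases x <;> simp only [letter, map_inv, h] <;> rfl
  · have : letter x = letter 10 := by
      match x, hx with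
      | n + 10, _ => rfl
    rw [this]
    show _ = matOf (matL x)
    rw [(eq_ten hx).1]
    simp only [letter, map_inv, h]
    rfl

theorem rep_prod : ∀ w : List ℕ,
    ((rep (w.map letter).prod : GL (Fin 248) (ZMod 3)) : Matrix (Fin 248) (Fin 248) (ZMod 3)) =
      (w.map M).prod
  | [] => by simp
  | x :: w => by
    simp only [List.map_cons, List.prod_cons, map_mul, Units.val_mul, rep_letter, rep_prod w]

/-- The evaluator is right: the packed vector `v` times the word `w` is `vecOf v` times the image
of the word. -/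
theorem vecOf_vrun : ∀ (w : List ℕ) (v : ℕ × ℕ), w.all (fun x => Nat.blt x 11) = true →
    vecOf (vrun pkL w v) = vecOf v ᵥ*
      ((rep (w.map letter).prod : GL (Fin 248) (ZMod 3)) : Matrix (Fin 248) (Fin 248) (ZMod 3))
  | [], v, _ => by simp [vrun]
  | x :: w, v, hw => by
    rw [List.all_cons, Bool.and_eq_true] at hw
    have hx : x < 11 := by simpa [Nat.blt, Nat.ble_eq] using hw.1
    rw [vrun, vecOf_vrun w _ hw.2, vecOf_goV (shape_all x).2 (fun i j => pack_val hx i j) v,
      vecMul_vecMul, rep_prod, rep_prod, List.map_cons, List.prod_cons]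

theorem good_vrun : ∀ (w : List ℕ) (v : ℕ × ℕ), goodB v = true → goodB (vrun pkL w v) = true
  | [], _, hv => hv
  | x :: w, v, _ => by
    refine good_vrun w _ (good_vrow ?_ _ _)
    have := (shape_all x).2
    rw [packOK, Bool.and_eq_true] at this
    exact List.all_eq_true.mp this.2

/-- vectors with the same masks below 248 are equal -/
theorem vecOf_inj {x y : ℕ × ℕ} (hx : goodB x = true) (hy : goodB y = true)
    (hx' : x.1 < 2 ^ 248 ∧ x.2 < 2 ^ 248) (hy' : y.1 < 2 ^ 248 ∧ y.2 < 2 ^ 248)
    (h : vecOf x = vecOf y) : x = y := by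
  rw [goodB_iff] at hx hy
  have key : ∀ j, x.1.testBit j = y.1.testBit j ∧ x.2.testBit j = y.2.testBit j := fun j => by
    by_cases hj : j < 248
    · have := congrFun h ⟨j, hj⟩
      have h1 := hx j
      have h2 := hy j
      simp only [vecOf, dg] at this
      revert this h1 h2
      rcases Bool.eq_false_or_eq_true (x.1.testBit j) with a | a <;>
      rcases Bool.eq_false_or_eq_true (x.2.testBit j) with b | b <;>
      rcases Bool.eq_false_or_eq_true (y.1.testBit j) with c | c <;>
      rcases Bool.eq_false_or_eq_true (y.2.testBit j) with d | d <;>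
      simp [a, b, c, d] <;> decide
    · have hb : ∀ {n : ℕ}, n < 2 ^ 248 → n.testBit j = false := fun hn =>
        Nat.testBit_lt_two_pow (lt_of_lt_of_le hn (Nat.pow_le_pow_right (by norm_num) (by omega)))
      rw [hb hx'.1, hb hy'.1, hb hx'.2, hb hy'.2]
      exact ⟨rfl, rfl⟩
  exact Prod.ext (Nat.eq_of_testBit_eq fun j => (key j).1) (Nat.eq_of_testBit_eq fun j => (key j).2)

theorem rep_ne_one : rep ≠ 1 := fun h => by
  have e : M 0 = 1 := by
    rw [← rep_letter, h, MonoidHom.one_apply, Units.val_one]
  have h1 := rep_word [0]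
  rw [List.map_cons, List.map_nil, List.prod_cons, List.prod_nil, mul_one, e] at h1
  obtain ⟨i, hi, hne⟩ := List.any_eq_true.mp entry
  rw [List.mem_range] at hi
  have key : (get (runM matL [0]) i).1 % 2 ^ 248 = (get oneS i).1 % 2 ^ 248 := by
    refine Nat.eq_of_testBit_eq fun j => ?_
    simp only [Nat.testBit_mod_two_pow]
    by_cases hj : j < 248
    · simp only [hj, decide_true, Bool.true_and]
      obtain ⟨g1, d1⟩ := h1 ⟨i, hi⟩
      obtain ⟨g2, d2⟩ := rep_oneS ⟨i, hi⟩
      have := (d1 ⟨j, hj⟩).trans (d2 ⟨j, hj⟩).symm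
      have a1 := goodB_iff.1 g1 j
      have a2 := goodB_iff.1 g2 j
      simp only [dg] at this
      revert this a1 a2
      generalize (get (runM matL [0]) i).1.testBit j = a
      generalize (get (runM matL [0]) i).2.testBit j = b
      generalize (get oneS i).1.testBit j = c
      generalize (get oneS i).2.testBit j = d
      revert a b c d
      decide
    · simp [hj]
  have small : ((get (runM matL [0]) i).1 < 2 ^ 248 ∧ (get oneS i).1 < 2 ^ 248) := by
    have := List.all_eq_true.mp small_entry i (List.mem_range.mpr hi)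
    simpa [Nat.blt, Nat.ble_eq] using this
  rw [Nat.mod_eq_of_lt small.1, Nat.mod_eq_of_lt small.2] at key
  rw [key, Nat.beq_refl] at hne
  simp at hne

end CfsgLib.ThRep32
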