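import Cfsg.Agent.ThRep32.Words

/-! Kernel checks: relators act as the identity on the 248-dimensional space. -/

set_option autoImplicit false
set_option maxRecDepth 100000
set_option Elab.async false

namespace CfsgLib.ThRep32

theorem rel0 : idOK (relWord 0) = true := by
  decide +kernel

theorem rel1 : idOK (relWord 1) = true := by
  decide +kernel

theorem rel2 : idOK (relWord 2) = true := by
  decide +kernel

theorem rel3 : idOK (relWord 3) = true := by
  decide +kernel

theorem rel4 : idOK (relWord 4) = true := by
  decide +kernel

theorem rel5 : idOK (relWord 5) = true := by
  decide +kernel

theorem rel6 : idOK (relWord 6) = true := by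
  decide +kernel

theorem rel7 : idOK (relWord 7) = true := by
  decide +kernel

theorem rel8 : idOK (relWord 8) = true := by
  decide +kernel

theorem rel9 : idOK (relWord 9) = true := by
  decide +kernel

theorem rel10 : idOK (relWord 10) = true := by
  decide +kernel

theorem rel11 : idOK (relWord 11) = true := by
  decide +kernel

theorem rel12 : idOK (relWord 12) = true := by
  decide +kernel

theorem rel13 : idOK (relWord 13) = true := by
  decide +kernel

end CfsgLib.ThRep32
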