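import Mathlib

/-!
Vectors over the field with three elements as two bit masks, products of sparse matrices on
lists of such rows, and products of a vector with packed matrices.
-/

set_option autoImplicit false

namespace CfsgLib.ThRep32

open Matrix

/-- sum of two vectors, each given by the masks of its entries `1` and `-1` -/
def addP (x y : ℕ × ℕ) : ℕ × ℕ :=
  let t := (x.1 ||| y.2) ^^^ (x.2 ||| y.1)
  ((x.2 ||| y.2) ^^^ t, (x.1 ||| y.1) ^^^ t)

/-- the negative of a vector -/
def negP (x : ℕ × ℕ) : ℕ × ℕ := (x.2, x.1)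

/-- no entry is both `1` and `-1` -/
def goodB (x : ℕ × ℕ) : Bool := Nat.beq (x.1 &&& x.2) 0

/-- an entry of a vector -/
def dg (x : ℕ × ℕ) (j : ℕ) : ZMod 3 := if x.1.testBit j then 1 else if x.2.testBit j then -1 else 0

/-- the vector of two masks -/
def vecOf (x : ℕ × ℕ) : Fin 248 → ZMod 3 := fun j => dg x j

/-- a row of a state, kept in blocks of sixteen -/
def get (L : List (List (ℕ × ℕ))) (i : ℕ) : ℕ × ℕ := (L.getD (i / 16) []).getD (i % 16) (0, 0)

/-- blocks from a function -/
def tab (f : ℕ → ℕ × ℕ) : List (List (ℕ × ℕ)) :=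
  (List.range 16).map fun g => (List.range 16).map fun r => f (16 * g + r)

/-- a sparse row times a state; an entry in column `k` is coded as `2 * k`, or `2 * k + 1` if it is
`-1` -/
def comb (L : List (List (ℕ × ℕ))) : List ℕ → ℕ × ℕ
  | [] => (0, 0)
  | p :: l => addP (if Nat.beq (p % 2) 0 then get L (p / 2) else negP (get L (p / 2))) (comb L l)

/-- a sparse matrix times a state -/
def stepM (R : List (List ℕ)) (L : List (List (ℕ × ℕ))) : List (List (ℕ × ℕ)) :=
  tab fun i => comb L (R.getD i [])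

/-- the identity -/
def oneS : List (List (ℕ × ℕ)) := tab fun i => (2 ^ i, 0)

/-- a word in sparse matrices times the identity -/
def runM (A : ℕ → List (List ℕ)) : List ℕ → List (List (ℕ × ℕ))
  | [] => oneS
  | x :: w => stepM (A x) (runM A w)

/-- two states have the same rows -/
def sameS (L L' : List (List (ℕ × ℕ))) : Bool :=
  (List.range 248).all fun i =>
    Nat.beq (get L i).1 (get L' i).1 && Nat.beq (get L i).2 (get L' i).2

/-- the columns of a sparse matrix are in range -/
def shapeOK (R : List (List ℕ)) : Bool := R.all fun l => l.all fun p => Nat.blt (p / 2) 248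

/-- a vector times packed rows, from the masks of the vector -/
def goV : List (ℕ × ℕ) → ℕ → ℕ → ℕ × ℕ
  | [], _, _ => (0, 0)
  | r :: R, p, m =>
    if Nat.beq (p % 2) 1 then addP r (goV R (p / 2) (m / 2))
    else if Nat.beq (m % 2) 1 then addP (negP r) (goV R (p / 2) (m / 2))
    else goV R (p / 2) (m / 2)

/-- a vector times a word in packed matrices, the first letter acting first -/
def vrun (A : ℕ → List (ℕ × ℕ)) : List ℕ → ℕ × ℕ → ℕ × ℕ
  | [], v => v
  | x :: w, v => vrun A w (goV (A x) v.1 v.2)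

/-- packed rows of good vectors, as many as needed -/
def packOK (R : List (ℕ × ℕ)) : Bool := Nat.beq R.length 248 && R.all goodB

/-- the matrix of a sparse row list -/
def matOf (R : List (List ℕ)) : Matrix (Fin 248) (Fin 248) (ZMod 3) := fun i k =>
  ((R.getD i []).map fun p =>
    if p / 2 = (k : ℕ) then (if Nat.beq (p % 2) 0 then 1 else -1 : ZMod 3) else 0).sum

/-- the state represents the matrix -/
def Rep (L : List (List (ℕ × ℕ))) (P : Matrix (Fin 248) (Fin 248) (ZMod 3)) : Prop :=
  ∀ i : Fin 248, goodB (get L i) = true ∧ ∀ j : Fin 248, dg (get L i) j = P i j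

theorem goodB_iff {x : ℕ × ℕ} :
    goodB x = true ↔ ∀ j, ¬ (x.1.testBit j = true ∧ x.2.testBit j = true) := by
  rw [goodB, Nat.beq_eq]
  constructor
  · intro h j hj
    have := Nat.testBit_and x.1 x.2 j
    rw [h, Nat.zero_testBit, hj.1, hj.2] at this
    simp at this
  · intro h
    refine Nat.eq_of_testBit_eq fun j => ?_
    rw [Nat.testBit_and, Nat.zero_testBit, Bool.and_eq_false_iff]
    have := h j
    cases hx : x.1.testBit j <;> simp_all

theorem goodB_zero : goodB (0, 0) = true := rfl

theorem dg_zero (j : ℕ) : dg (0, 0) j = 0 := by simp [dg]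

theorem goodB_negP {x : ℕ × ℕ} (h : goodB x = true) : goodB (negP x) = true := by
  rw [goodB_iff] at h ⊢
  exact fun j hj => h j ⟨hj.2, hj.1⟩

theorem dg_negP {x : ℕ × ℕ} (h : goodB x = true) (j : ℕ) : dg (negP x) j = -dg x j := by
  have := goodB_iff.1 h j
  simp only [dg, negP]
  by_cases h1 : x.1.testBit j = true <;> by_cases h2 : x.2.testBit j = true <;> simp_all

theorem addP_bits : ∀ a b c d : Bool, (a && b) = false → (c && d) = false →
    (((b || d) ^^ ((a || d) ^^ (b || c))) && ((a || c) ^^ ((a || d) ^^ (b || c)))) = false ∧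
    ((if ((b || d) ^^ ((a || d) ^^ (b || c))) then 1 else
      if ((a || c) ^^ ((a || d) ^^ (b || c))) then -1 else 0 : ZMod 3) =
      (if a then 1 else if b then -1 else 0) + (if c then 1 else if d then -1 else 0)) := by
  decide

theorem goodB_addP {x y : ℕ × ℕ} (hx : goodB x = true) (hy : goodB y = true) :
    goodB (addP x y) = true := by
  rw [goodB_iff] at hx hy ⊢
  intro j hj
  have := (addP_bits (x.1.testBit j) (x.2.testBit j) (y.1.testBit j) (y.2.testBit j)
    (by simpa using hx j) (by simpa using hy j)).1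
  simp only [addP, Nat.testBit_xor, Nat.testBit_or] at hj
  simp [hj.1, hj.2] at this

theorem dg_addP {x y : ℕ × ℕ} (hx : goodB x = true) (hy : goodB y = true) (j : ℕ) :
    dg (addP x y) j = dg x j + dg y j := by
  rw [goodB_iff] at hx hy
  have := (addP_bits (x.1.testBit j) (x.2.testBit j) (y.1.testBit j) (y.2.testBit j)
    (by simpa using hx j) (by simpa using hy j)).2
  simpa [dg, addP, Nat.testBit_xor, Nat.testBit_or] using this

theorem get_tab (f : ℕ → ℕ × ℕ) {i : ℕ} (hi : i < 256) : get (tab f) i = f i := by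
  have h1 : i / 16 < 16 := by omega
  have h2 : i % 16 < 16 := by omega
  simp [get, tab, h1, h2, Nat.div_add_mod]

theorem rep_oneS : Rep oneS 1 := fun i => by
  rw [oneS, get_tab _ (by omega)]
  refine ⟨by simp [goodB], fun j => ?_⟩
  rw [dg, Matrix.one_apply, Nat.testBit_two_pow]
  by_cases h : i = j
  · simp [h]
  · simp [h, Fin.val_inj]

theorem sum_matOf {n : ℕ} (v : Fin n → ZMod 3) : ∀ l : List ℕ, (∀ p ∈ l, p / 2 < n) →
    (∑ k : Fin n, ((l.map fun p =>
      if p / 2 = (k : ℕ) then (if Nat.beq (p % 2) 0 then 1 else -1 : ZMod 3) else 0).sum) * v k) =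
      (l.map fun p => (if Nat.beq (p % 2) 0 then 1 else -1 : ZMod 3) *
        if hk : p / 2 < n then v ⟨p / 2, hk⟩ else 0).sum
  | [], _ => by simp
  | p :: l, hl => by
    have hp := hl p List.mem_cons_self
    simp only [List.map_cons, List.sum_cons, add_mul, Finset.sum_add_distrib, dif_pos hp,
      sum_matOf v l fun q hq => hl q (List.mem_cons_of_mem _ hq)]
    congr 1
    rw [Finset.sum_eq_single (⟨p / 2, hp⟩ : Fin n), if_pos rfl]
    · intro k _ hk
      rw [if_neg fun h => hk (Fin.ext h.symm), zero_mul]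
    · exact fun h => absurd (Finset.mem_univ _) h

theorem comb_eq {L : List (List (ℕ × ℕ))} {P : Matrix (Fin 248) (Fin 248) (ZMod 3)}
    (hL : Rep L P) : ∀ l : List ℕ, (∀ p ∈ l, p / 2 < 248) → goodB (comb L l) = true ∧
      ∀ j : Fin 248, dg (comb L l) j = (l.map fun p =>
        (if Nat.beq (p % 2) 0 then 1 else -1 : ZMod 3) *
          if hk : p / 2 < 248 then P ⟨p / 2, hk⟩ j else 0).sum
  | [], _ => ⟨goodB_zero, fun j => by simp [comb, dg_zero]⟩
  | p :: l, hl => by
    have hp := hl p List.mem_cons_self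
    obtain ⟨ih1, ih2⟩ := comb_eq hL l fun q hq => hl q (List.mem_cons_of_mem _ hq)
    obtain ⟨g1, g2⟩ := hL ⟨p / 2, hp⟩
    rw [comb]
    by_cases hb : Nat.beq (p % 2) 0 = true
    · rw [if_pos hb]
      refine ⟨goodB_addP g1 ih1, fun j => ?_⟩
      rw [dg_addP g1 ih1, g2, ih2, List.map_cons, List.sum_cons, if_pos hb, dif_pos hp, one_mul]
    · rw [if_neg hb]
      refine ⟨goodB_addP (goodB_negP g1) ih1, fun j => ?_⟩
      rw [dg_addP (goodB_negP g1) ih1, dg_negP g1, g2, ih2, List.map_cons, List.sum_cons,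
        if_neg hb, dif_pos hp, neg_one_mul]

theorem rep_stepM {R : List (List ℕ)} {L : List (List (ℕ × ℕ))}
    {P : Matrix (Fin 248) (Fin 248) (ZMod 3)} (hR : shapeOK R = true) (hL : Rep L P) :
    Rep (stepM R L) (matOf R * P) := fun i => by
  rw [stepM, get_tab _ (by omega)]
  have hl : ∀ p ∈ R.getD i [], p / 2 < 248 := by
    rcases Nat.lt_or_ge (i : ℕ) R.length with h | h
    · rw [List.getD_eq_getElem _ _ h]
      intro p hp
      simpa [Nat.blt, Nat.ble_eq] using
        List.all_eq_true.mp (List.all_eq_true.mp hR _ (List.getElem_mem h)) p hp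
    · rw [List.getD_eq_default _ _ h]
      simp
  obtain ⟨g, d⟩ := comb_eq hL _ hl
  refine ⟨g, fun j => ?_⟩
  rw [d, Matrix.mul_apply]
  simp only [matOf]
  rw [sum_matOf (fun k => P k j) _ hl]

theorem rep_runM (A : ℕ → List (List ℕ)) : ∀ w : List ℕ, (∀ x ∈ w, shapeOK (A x) = true) →
    Rep (runM A w) (w.map fun x => matOf (A x)).prod
  | [], _ => rep_oneS
  | x :: w, h => by
    rw [runM, List.map_cons, List.prod_cons]
    exact rep_stepM (h x List.mem_cons_self)
      (rep_runM A w fun y hy => h y (List.mem_cons_of_mem _ hy))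

theorem rep_eq_of_same {L L' : List (List (ℕ × ℕ))} {P Q : Matrix (Fin 248) (Fin 248) (ZMod 3)}
    (hL : Rep L P) (hL' : Rep L' Q) (h : sameS L L' = true) : P = Q := by
  refine Matrix.ext fun i j => ?_
  have e := List.all_eq_true.mp h i (List.mem_range.mpr i.isLt)
  rw [Bool.and_eq_true, Nat.beq_eq, Nat.beq_eq] at e
  rw [← (hL i).2 j, ← (hL' i).2 j, Prod.ext e.1 e.2]

theorem good_vrow {R : List (ℕ × ℕ)} (hR : ∀ r ∈ R, goodB r = true) :
    ∀ p m, goodB (goV R p m) = true := by
  induction R with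
  | nil => exact fun _ _ => goodB_zero
  | cons r R ih =>
    intro p m
    have hr := hR r List.mem_cons_self
    have h' := ih (fun q hq => hR q (List.mem_cons_of_mem _ hq)) (p / 2) (m / 2)
    rw [goV]
    split_ifs
    · exact goodB_addP hr h'
    · exact goodB_addP (goodB_negP hr) h'
    · exact h'

theorem dg_goV (j : ℕ) : ∀ (R : List (ℕ × ℕ)) (p m : ℕ), (∀ r ∈ R, goodB r = true) →
    dg (goV R p m) j = ∑ k : Fin R.length, dg (p, m) k * dg R[(k : ℕ)] j
  | [], _, _, _ => by simp [goV, dg_zero]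
  | r :: R, p, m, hR => by
    have hr := hR r List.mem_cons_self
    have hR' : ∀ q ∈ R, goodB q = true := fun q hq => hR q (List.mem_cons_of_mem _ hq)
    have h' := good_vrow hR' (p / 2) (m / 2)
    have hs : ∀ k : ℕ, dg (p, m) (k + 1) = dg (p / 2, m / 2) k := fun k => by
      simp only [dg, Nat.testBit_succ]
    simp only [List.length_cons, Fin.sum_univ_succ, Fin.val_zero, Fin.val_succ,
      List.getElem_cons_zero, List.getElem_cons_succ, hs, ← dg_goV j R (p / 2) (m / 2) hR']
    rw [goV]
    simp only [Nat.beq_eq]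
    by_cases hp : p % 2 = 1
    · rw [if_pos hp, dg_addP hr h']
      simp [dg, Nat.testBit_zero, hp]
    · rw [if_neg hp]
      by_cases hm : m % 2 = 1
      · rw [if_pos hm, dg_addP (goodB_negP hr) h', dg_negP hr]
        simp [dg, Nat.testBit_zero, hp, hm]
        split_ifs <;> simp
      · rw [if_neg hm]
        simp [dg, Nat.testBit_zero, hp, hm]

theorem vecOf_goV {R : List (ℕ × ℕ)} {M : Matrix (Fin 248) (Fin 248) (ZMod 3)}
    (hR : packOK R = true) (hM : ∀ (i j : Fin 248), dg (R.getD i (0, 0)) j = M i j) (v : ℕ × ℕ) :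
    vecOf (goV R v.1 v.2) = vecOf v ᵥ* M := by
  rw [packOK, Bool.and_eq_true, Nat.beq_eq, List.all_eq_true] at hR
  funext j
  show dg _ j = ∑ i : Fin 248, dg v i * M i j
  rw [dg_goV _ R _ _ hR.2]
  refine Fintype.sum_equiv (finCongr hR.1) _ _ fun k => ?_
  rw [← hM, finCongr_apply, Fin.val_cast, List.getD_eq_getElem _ _ k.isLt]

end CfsgLib.ThRep32
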