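import Cfsg.Agent.ThRep32.Data
import Cfsg.Agent.Eq.Def_Spor_Th

/-!
Matrix words of the relators of the presented Thompson group.
-/

set_option autoImplicit false

namespace CfsgLib.ThRep32

open Cfsg.Spor

/-- the letter of a signed generator -/
def enc : Th.Gen × Bool → ℕ
  | (.a, _) => 0
  | (.b, _) => 1
  | (.c, _) => 2
  | (.d, _) => 3
  | (.e, _) => 4
  | (.s, true) => 5
  | (.s, false) => 6
  | (.t, true) => 7
  | (.t, false) => 8
  | (.u, true) => 9
  | (.u, false) => 10

/-- the inverse letter -/
def invL : ℕ → ℕ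
  | 5 => 6 | 6 => 5 | 7 => 8 | 8 => 7 | 9 => 10 | 10 => 9
  | x => x

/-- the word acts as the identity -/
def idOK (w : List ℕ) : Bool := sameS (runM matL w) oneS

/-- the matrix word of a relator -/
def relWord (i : ℕ) : List ℕ := (FreeGroup.toWord (Th.extra.getD i 1)).map enc

end CfsgLib.ThRep32
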